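import Cfsg.Agent.Lib.BlockRank.NilpotentAbelian
import Cfsg.Agent.Lib.Blk83.InnerFusion

/-!
# Nilpotency of blocks with abelian defect groups through the rank
-/

set_option autoImplicit false
set_option maxHeartbeats 1000000
set_option synthInstance.maxHeartbeats 400000

open Cfsg CfsgLib.Blocks CfsgLib.Blocks.Pairs CfsgLib.BlockRank
open scoped Classical

namespace CfsgLib.CyclicNilpotent

universe u

variable {G : Type u} [Group G] [Finite G] {p : ℕ} [Fact p.Prime] {M : Ideal AlgInt}

/-- An abelian defect block is nilpotent iff it has rank one, as soon as the inertial index is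
known to be the rank. -/
theorem isNilpotentBlock_iff_rankOne (hM : IsPModular p M) {B : Set (IrrCharacter G)}
    (hB : IsPBlock M B) {P : Subgroup G} (hPD : IsDefectGroup p M B P)
    (hab : ∀ x ∈ P, ∀ y ∈ P, x * y = y * x)
    (hrank : P ≠ ⊥ → ∀ b : Set (IrrCharacter (Subgroup.centralizer (P : Set G))),
      IsInducedBlock M (Subgroup.centralizer (P : Set G)) b B → ∀ T : Subgroup G,
      (∀ g : G, g ∈ T ↔ g ∈ Subgroup.normalizer (P : Set G) ∧
        StabilizesBlock (Subgroup.centralizer (P : Set G)) b g) →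
      Cfsg.blockRank p B = (Subgroup.centralizer (P : Set G)).relIndex T) :
    Cfsg.IsNilpotentBlock p M B ↔ Cfsg.blockRank p B = 1 := by
  haveI : M.IsMaximal := hM.2.1
  haveI : CharP (ResField M) p := charP_resField hM.1 (natCast_mem_of_isPModular hM)
  have hmax : MaxR p (ebar hB) P := (isDefectGroup_iff_maxR hM hB).1 hPD
  obtain ⟨e, hP⟩ := exists_pairOf (p := p) (isBlockIdem_ebar hB) hmax.pgroup hmax.ne_zero
  have hno := hmax.noExt hP
  rw [CfsgLib.Blk83.isNilpotentBlock_iff hM hB]
  constructor
  · intro hnil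
    refine (rankOne_of_trivial_inertial hM hB hP hno hab fun x hx => ?_).1
    obtain ⟨u, hu, hux⟩ := CfsgLib.Blk83.inner_of_nilPairs hM hP hno hnil (φ := Cfsg.conjHom P x)
      ⟨x, fun _ => rfl, e, SLE.refl _ _, by
        rw [conjSub_eq_of_mem_normalizer hx.1, hx.2]; exact SLE.refl _ _⟩
    refine Subgroup.mem_centralizer_iff.mpr fun q hq => ?_
    have h1 : x * q * x⁻¹ = u * q * u⁻¹ := hux ⟨q, hq⟩
    rw [hab u hu q hq, mul_inv_cancel_right] at h1
    exact (mul_inv_eq_iff_eq_mul.mp h1).symm
  · intro hl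
    have htriv : pairStab P e ≤ Subgroup.centralizer (P : Set G) := by
      by_cases hbot : P = ⊥
      · intro x _
        rw [hbot]
        exact Subgroup.mem_centralizer_iff.2 fun q hq => by
          rw [Subgroup.mem_bot.1 hq, one_mul, mul_one]
      · obtain ⟨b, hb, rfl⟩ := exists_eIn_eq hP.pair.block
        have h := hrank hbot b ((isInducedBlock_iff_pairOf hM hmax.pgroup hB hb).2 hP)
          (pairStab P (eIn hb)) (fun g => CfsgLib.Blk83.mem_pairStab_iff hb)
        rw [hl] at h
        exact Subgroup.relIndex_eq_one.1 h.symm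
    refine CfsgLib.Blk83.nilPairs_of_below hP hno fun Q f hle x hx _ => ?_
    obtain ⟨y, hy, -, c, hc, rfl⟩ := CfsgLib.Blk83.exists_mul_of_comm hP hno hab hle
      (exists_maxIn_of_isBlockIdem hM (hle.pair_left hP.pair).block) hx
    exact Subgroup.mul_mem _ (centralizer_anti hle.le (htriv hy)) hc

end CfsgLib.CyclicNilpotent
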